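import Cfsg.Agent.Lib.Transfer.Misc
import Cfsg.Agent.Lib.PGroups.Parts
import Cfsg.Agent.Lib.OddLocal.Fitting

/-! Normal complements to nilpotent Hall subgroups and Burnside's theorem for Hall subgroups. -/

set_option autoImplicit false

namespace Cfsg.Agent.Lib.Transfer

open Subgroup

variable {G : Type*} [Group G] [Finite G]

/-- A Sylow subgroup of a Hall subgroup is a Sylow subgroup. -/
lemma exists_sylow_of_hall (H : Subgroup G) (hHall : (Nat.card H).Coprime H.index) (q : ℕ) [hq : Fact q.Prime]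
    (hd : q ∣ Nat.card H) (S : Sylow q H) :
    ∃ P : Sylow q G, (P : Subgroup G) = (S : Subgroup H).map H.subtype := by
  have hQ : IsPGroup q ((S : Subgroup H).map H.subtype) := S.isPGroup'.map _
  have hnd : ¬ q ∣ ((S : Subgroup H).map H.subtype).index := by
    rw [index_map_subtype]
    intro h
    rcases (Nat.Prime.dvd_mul hq.out).mp h with h1 | h1
    · exact S.not_dvd_index h1
    · exact hq.out.one_lt.ne' (Nat.eq_one_of_dvd_coprimes hHall hd h1)
  exact ⟨hQ.toSylow hnd, rfl⟩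

/-- Elements of prime power order in a nilpotent group lie in the Sylow subgroup. -/
lemma mem_sylow_of_nilpotent [Group.IsNilpotent G] (q : ℕ) [hq : Fact q.Prime] (S : Sylow q G) {a : G}
    {k : ℕ} (ha : a ^ q ^ k = 1) : a ∈ S := by
  have hn : (S : Subgroup G).Normal := Sylow.normal_of_normalizerCondition (normalizerCondition_of_isNilpotent) S
  have hP : IsPGroup q (zpowers a) := by
    rintro ⟨_, y, rfl⟩
    refine ⟨k, ?_⟩
    apply Subtype.ext
    simp only [Subgroup.coe_pow, Subgroup.coe_one]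
    rw [← zpow_natCast, ← zpow_mul, mul_comm, zpow_mul, zpow_natCast, ha, one_zpow]
  obtain ⟨R, hR⟩ := hP.exists_le_sylow
  obtain ⟨g, rfl⟩ := MulAction.exists_smul_eq G S R
  haveI : S.Normal := hn
  rw [Sylow.smul_eq_of_normal] at hR
  exact hR (mem_zpowers a)

/-- Control of conjugacy by a nilpotent subgroup passes to its Sylow subgroups. -/
lemma sylow_control_of_nilpotent (H : Subgroup G) (hH : Group.IsNilpotent H) (q : ℕ) [hq : Fact q.Prime]
    (hctrl : ∀ x ∈ H, ∀ y ∈ H, (∃ g : G, g * x * g⁻¹ = y) → ∃ h ∈ H, h * x * h⁻¹ = y)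
    (S : Sylow q H) (x y : G) (hx : x ∈ (S : Subgroup H).map H.subtype)
    (hy : y ∈ (S : Subgroup H).map H.subtype) (hg : ∃ g : G, g * x * g⁻¹ = y) :
    ∃ u ∈ (S : Subgroup H).map H.subtype, u * x * u⁻¹ = y := by
  obtain ⟨x', hx', rfl⟩ := hx
  obtain ⟨y', hy', rfl⟩ := hy
  obtain ⟨h, hh, hxy⟩ := hctrl _ x'.2 _ y'.2 hg
  obtain ⟨a, b, hab, hcm, ⟨k, hk⟩, hb, ha, hb'⟩ := Cfsg.Agent.Lib.PGroups.exists_pPart q (⟨h, hh⟩ : H)
  have hxq : ∃ j, orderOf x' = q ^ j := by
    obtain ⟨j, hj⟩ := S.isPGroup' ⟨x', hx'⟩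
    have h1 : x' ^ q ^ j = 1 := by simpa using congrArg Subtype.val hj
    obtain ⟨i, -, hi⟩ := (Nat.dvd_prime_pow hq.out).mp (orderOf_dvd_of_pow_eq_one h1)
    exact ⟨i, hi⟩
  obtain ⟨j, hj⟩ := hxq
  have hcop : (orderOf b).Coprime (orderOf x') := by
    rw [hj]
    exact Nat.Coprime.pow_right j ((Nat.Prime.coprime_iff_not_dvd hq.out).mpr hb).symm
  have hbx : b * x' = x' * b := Cfsg.Agent.Lib.OddLocal.commute_of_coprime_of_nilpotent b x' hcop
  have ha' : a ∈ (S : Subgroup H) := by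
    apply mem_sylow_of_nilpotent q S (k := k)
    rw [← hk, pow_orderOf_eq_one]
  refine ⟨((a : H) : G), ⟨a, ha', rfl⟩, ?_⟩
  have hxy' : (⟨h, hh⟩ : H) * x' * (⟨h, hh⟩ : H)⁻¹ = y' := by
    apply Subtype.ext
    exact hxy
  rw [hab] at hxy'
  have h5 : a * x' * a⁻¹ = y' := by
    rw [← hxy']
    calc a * x' * a⁻¹ = a * (b * x' * b⁻¹) * a⁻¹ := by rw [hbx]; group
      _ = a * b * x' * (a * b)⁻¹ := by group
  exact congrArg Subtype.val h5

/-- Converse of Frobenius-type complement theorem: conjugacy in a nilpotent Hall subgroup. -/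
theorem hall_nilpotent_complement (H : Subgroup G) (hH : Group.IsNilpotent H)
    (hHall : (Nat.card H).Coprime H.index)
    (hctrl : ∀ x ∈ H, ∀ y ∈ H, (∃ g : G, g * x * g⁻¹ = y) → ∃ h ∈ H, h * x * h⁻¹ = y) :
    ∃ N : Subgroup G, N.Normal ∧ N.IsComplement' H := by
  classical
  set m := Nat.card H with hm
  have hm0 : m ≠ 0 := Nat.card_pos.ne'
  have key : ∀ q ∈ m.primeFactors, ∃ K : Subgroup G, K.Normal ∧ (Nat.card K).Coprime q ∧
      K.index ≤ q ^ m.factorization q := by
    intro q hq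
    have hqp : q.Prime := Nat.prime_of_mem_primeFactors hq
    have hqd : q ∣ m := Nat.dvd_of_mem_primeFactors hq
    haveI : Fact q.Prime := ⟨hqp⟩
    obtain ⟨S⟩ : Nonempty (Sylow q H) := inferInstance
    obtain ⟨P, hP⟩ := exists_sylow_of_hall H hHall q hqd S
    have h1 : HasNormalPComplement q G := by
      apply hasNormalPComplement_of_control P
      rw [hP]
      intro x hx y hy hg
      exact sylow_control_of_nilpotent H hH q hctrl S x y hx hy hg
    obtain ⟨K, hKn, hKc, k, hk⟩ := exists_hall_of_hasNormalPComplement h1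
    refine ⟨K, hKn, hKc, ?_⟩
    rw [hk]
    apply Nat.pow_le_pow_right hqp.pos
    apply (Nat.Prime.pow_dvd_iff_le_factorization hqp hm0).mp
    have h2 : q ^ k ∣ m * H.index := by
      rw [hm, card_mul_index, ← hk]
      exact index_dvd_card K
    refine Nat.Coprime.dvd_of_dvd_mul_right ?_ h2
    exact Nat.Coprime.pow_left k (Nat.Coprime.coprime_dvd_left hqd hHall)
  choose! f hfn hfc hfi using key
  let N : Subgroup G := ⨅ q : m.primeFactors, f q
  have hNn : N.Normal := normal_iInf_normal fun q => hfn q q.2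
  have hNle : ∀ q ∈ m.primeFactors, N ≤ f q := fun q hq => iInf_le (fun q : m.primeFactors => f q) ⟨q, hq⟩
  have hidx : N.index ≤ m := by
    calc N.index ≤ ∏ q : m.primeFactors, (f q).index := index_iInf_le _
      _ ≤ ∏ q : m.primeFactors, (q : ℕ) ^ m.factorization q :=
        Finset.prod_le_prod' fun q _ => hfi q q.2
      _ = ∏ q ∈ m.primeFactors, q ^ m.factorization q :=
        Finset.prod_coe_sort m.primeFactors fun q => q ^ m.factorization q
      _ = m := Nat.factorization_prod_pow_eq_self hm0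
  have hcop : (Nat.card N).Coprime m := by
    apply Nat.coprime_of_dvd
    intro r hr hr1 hr2
    have hrm : r ∈ m.primeFactors := Nat.mem_primeFactors.mpr ⟨hr, hr2, hm0⟩
    have h3 : Nat.card N ∣ Nat.card (f r) := card_dvd_of_le (hNle r hrm)
    have h4 := hfc r hrm
    exact hr.one_lt.ne' (Nat.eq_one_of_dvd_coprimes h4 (hr1.trans h3) (dvd_refl r))
  have h5 : m ∣ N.index := by
    have h6 : m ∣ Nat.card N * N.index := by
      rw [card_mul_index, hm]
      exact card_subgroup_dvd_card H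
    exact Nat.Coprime.dvd_of_dvd_mul_left hcop.symm h6
  have h7 : N.index = m := le_antisymm hidx (Nat.le_of_dvd (Nat.pos_of_ne_zero (by
    have := (card_mul_index N)
    intro h0
    rw [h0, mul_zero] at this
    exact Nat.card_pos.ne this)) h5)
  refine ⟨N, hNn, isComplement'_of_coprime ?_ hcop⟩
  rw [← hm, ← h7, card_mul_index]

/-- A subgroup with a normal complement controls the conjugacy of its elements. -/
lemma conj_control_of_normal_complement {H N : Subgroup G} (hN : N.Normal) (hc : N.IsComplement' H)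
    {x y : G} (hx : x ∈ H) (hy : y ∈ H) (hg : ∃ g : G, g * x * g⁻¹ = y) : ∃ h ∈ H, h * x * h⁻¹ = y := by
  obtain ⟨g, rfl⟩ := hg
  have hg : g ∈ (↑(N ⊔ H) : Set G) := by
    rw [hc.sup_eq_top]; simp
  rw [Subgroup.normal_mul] at hg
  obtain ⟨n, hn, h, hh, rfl⟩ := Set.mem_mul.mp hg
  refine ⟨h, hh, ?_⟩
  set x' := h * x * h⁻¹ with hx'
  have hx'H : x' ∈ H := H.mul_mem (H.mul_mem hh hx) (H.inv_mem hh)
  have h1 : n * x' * n⁻¹ * x'⁻¹ ∈ N := by
    rw [show n * x' * n⁻¹ * x'⁻¹ = n * (x' * n⁻¹ * x'⁻¹) by group]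
    exact N.mul_mem hn (hN.conj_mem _ (N.inv_mem hn) x')
  have h2 : n * x' * n⁻¹ * x'⁻¹ ∈ H := by
    have h3 : n * x' * n⁻¹ = n * h * x * (n * h)⁻¹ := by rw [hx']; group
    rw [h3]
    exact H.mul_mem hy (H.inv_mem hx'H)
  have h4 := Subgroup.disjoint_def.mp hc.disjoint h1 h2
  have h5 : n * x' * n⁻¹ = x' := by
    calc n * x' * n⁻¹ = (n * x' * n⁻¹ * x'⁻¹) * x' := by group
      _ = x' := by rw [h4, one_mul]
  calc x' = n * x' * n⁻¹ := h5.symm
    _ = n * h * x * (n * h)⁻¹ := by rw [hx']; group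

/-- Wielandt's conjugacy theorem for abelian Hall subgroups. -/
theorem exists_conj_of_abelian_hall (L H₁ H₂ : Subgroup G) (h₁L : H₁ ≤ L) (h₂L : H₂ ≤ L)
    (c₁ : ∀ a ∈ H₁, ∀ b ∈ H₁, a * b = b * a) (c₂ : ∀ a ∈ H₂, ∀ b ∈ H₂, a * b = b * a)
    (hcard : Nat.card H₁ = Nat.card H₂) (hHall : (Nat.card H₁).Coprime H₁.index) :
    ∃ c ∈ L, H₂.map (MulAut.conj c).toMonoidHom = H₁ := by
  classical
  obtain ⟨c, hc, hmax⟩ := Set.exists_max_image (L : Set G)
    (fun c => Nat.card ↥(H₁ ⊓ H₂.map (MulAut.conj c).toMonoidHom)) (Set.toFinite _) ⟨1, L.one_mem⟩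
  set H₂' := H₂.map (MulAut.conj c).toMonoidHom with hH₂'
  have hinj : ∀ a : G, Function.Injective (MulAut.conj a).toMonoidHom := fun a => (MulAut.conj a).injective
  have hcard' : Nat.card H₂' = Nat.card H₁ := by
    rw [hH₂', card_map_of_injective (hinj c), hcard]
  by_cases hD : H₁ ≤ H₂'
  · refine ⟨c, hc, (eq_of_le_of_card_ge hD (le_of_eq hcard')).symm⟩
  exfalso
  set D := H₁ ⊓ H₂' with hDdef
  have hDne : D.subgroupOf H₁ ≠ ⊤ := by
    intro h
    apply hD
    intro x hx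
    have : (⟨x, hx⟩ : H₁) ∈ D.subgroupOf H₁ := by rw [h]; trivial
    exact (Subgroup.mem_subgroupOf.mp this).2
  have hi1 : (D.subgroupOf H₁).index ≠ 1 := fun h => hDne (index_eq_one.mp h)
  obtain ⟨q, hq, hqd⟩ := Nat.exists_prime_and_dvd hi1
  haveI : Fact q.Prime := ⟨hq⟩
  have hq₁ : q ∣ Nat.card H₁ := hqd.trans (index_dvd_card _)
  have hq₂ : q ∣ Nat.card H₂' := hcard' ▸ hq₁
  have hidx : H₂'.index = H₁.index := by
    have h1 := card_mul_index H₂'
    have h2 := card_mul_index H₁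
    rw [hcard'] at h1
    exact Nat.eq_of_mul_eq_mul_left Nat.card_pos (h1.trans h2.symm)
  obtain ⟨S₁⟩ : Nonempty (Sylow q H₁) := inferInstance
  obtain ⟨S₂⟩ : Nonempty (Sylow q H₂') := inferInstance
  obtain ⟨P₁, hP₁⟩ := exists_sylow_of_hall H₁ hHall q hq₁ S₁
  obtain ⟨P₂, hP₂⟩ := exists_sylow_of_hall H₂' (by rw [hcard', hidx]; exact hHall) q hq₂ S₂
  have hP₁H : (P₁ : Subgroup G) ≤ H₁ := by
    rw [hP₁]; exact map_subtype_le _
  have hP₂H : (P₂ : Subgroup G) ≤ H₂' := by
    rw [hP₂]; exact map_subtype_le _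
  have hc₂' : ∀ a ∈ H₂', ∀ b ∈ H₂', a * b = b * a := by
    rintro _ ⟨a, ha, rfl⟩ _ ⟨b, hb, rfl⟩
    have := c₂ a ha b hb
    simp only [MulEquiv.coe_toMonoidHom, MulAut.conj_apply]
    calc c * a * c⁻¹ * (c * b * c⁻¹) = c * (a * b) * c⁻¹ := by group
      _ = c * (b * a) * c⁻¹ := by rw [this]
      _ = _ := by group
  have hH₂'L : H₂' ≤ L := by
    rintro _ ⟨a, ha, rfl⟩
    exact L.mul_mem (L.mul_mem hc (h₂L ha)) (L.inv_mem hc)
  let K : Subgroup G := L ⊓ centralizer (D : Set G)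
  have hP₁K : (P₁ : Subgroup G) ≤ K := by
    intro u hu
    refine ⟨h₁L (hP₁H hu), mem_centralizer_iff.mpr fun d hd => ?_⟩
    exact c₁ d hd.1 u (hP₁H hu)
  have hP₂K : (P₂ : Subgroup G) ≤ K := by
    intro u hu
    refine ⟨hH₂'L (hP₂H hu), mem_centralizer_iff.mpr fun d hd => ?_⟩
    exact hc₂' d hd.2 u (hP₂H hu)
  obtain ⟨h, hh, hsm⟩ := exists_mem_smul_eq_of_le P₁ P₂ K hP₁K hP₂K
  have hmaxb := hmax (h * c) (L.mul_mem hh.1 hc)
  have hmapmul : H₂.map (MulAut.conj (h * c)).toMonoidHom = H₂'.map (MulAut.conj h).toMonoidHom := by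
    rw [hH₂', Subgroup.map_map]
    congr 1
    ext x
    simp [mul_assoc]
  simp only [hmapmul] at hmaxb
  have hDle : D ≤ H₁ ⊓ H₂'.map (MulAut.conj h).toMonoidHom := by
    intro d hd
    refine ⟨hd.1, d, hd.2, ?_⟩
    have := mem_centralizer_iff.mp hh.2 d hd
    simp only [MulEquiv.coe_toMonoidHom, MulAut.conj_apply]
    rw [← this]
    group
  have hEq : D = H₁ ⊓ H₂'.map (MulAut.conj h).toMonoidHom := eq_of_le_of_card_ge hDle hmaxb
  have hP₁D : (P₁ : Subgroup G) ≤ D := by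
    rw [hEq]
    refine le_inf hP₁H ?_
    have h3 : (P₁ : Subgroup G) = (P₂ : Subgroup G).map (MulAut.conj h).toMonoidHom := by
      rw [← hsm]; rfl
    rw [h3]
    exact map_mono hP₂H
  have hS₁D : (S₁ : Subgroup H₁) ≤ D.subgroupOf H₁ := by
    intro u hu
    rw [mem_subgroupOf]
    apply hP₁D
    rw [hP₁]
    exact ⟨u, hu, rfl⟩
  exact S₁.not_dvd_index (hqd.trans (index_dvd_of_le hS₁D))

/-- Burnside's theorem for Hall subgroups. -/
theorem burnside_hall (H : Subgroup G) (hHall : (Nat.card H).Coprime H.index)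
    (h : normalizer (H : Set G) ≤ centralizer (H : Set G)) :
    ∃ N : Subgroup G, N.Normal ∧ N.IsComplement' H := by
  have hcomm : ∀ a ∈ H, ∀ b ∈ H, a * b = b * a := by
    intro a ha b hb
    have := mem_centralizer_iff.mp (h (le_normalizer ha)) b hb
    exact this.symm
  have hnil : Group.IsNilpotent H := by
    letI : CommGroup H := { (inferInstance : Group H) with
      mul_comm := fun a b => Subtype.ext (hcomm a a.2 b b.2) }
    exact CommGroup.isNilpotent
  refine hall_nilpotent_complement H hnil hHall ?_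
  rintro x hx y hy ⟨g, hg⟩
  refine ⟨1, H.one_mem, ?_⟩
  let L : Subgroup G := centralizer ({y} : Set G)
  have hinj : ∀ a : G, Function.Injective (MulAut.conj a).toMonoidHom := fun a => (MulAut.conj a).injective
  have hHL : H ≤ L := by
    intro u hu
    rw [mem_centralizer_iff]
    rintro _ rfl
    exact hcomm _ hy u hu
  have hH₂L : H.map (MulAut.conj g).toMonoidHom ≤ L := by
    rintro _ ⟨u, hu, rfl⟩
    rw [mem_centralizer_iff]
    rintro _ rfl
    have h1 := hcomm x hx u hu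
    simp only [MulEquiv.coe_toMonoidHom, MulAut.conj_apply]
    rw [← hg]
    calc g * x * g⁻¹ * (g * u * g⁻¹) = g * (x * u) * g⁻¹ := by group
      _ = g * (u * x) * g⁻¹ := by rw [h1]
      _ = _ := by group
  have hc₂ : ∀ a ∈ H.map (MulAut.conj g).toMonoidHom, ∀ b ∈ H.map (MulAut.conj g).toMonoidHom,
      a * b = b * a := by
    rintro _ ⟨a, ha, rfl⟩ _ ⟨b, hb, rfl⟩
    have := hcomm a ha b hb
    simp only [MulEquiv.coe_toMonoidHom, MulAut.conj_apply]
    calc g * a * g⁻¹ * (g * b * g⁻¹) = g * (a * b) * g⁻¹ := by group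
      _ = g * (b * a) * g⁻¹ := by rw [this]
      _ = _ := by group
  obtain ⟨c, hc, hcH⟩ := exists_conj_of_abelian_hall L H (H.map (MulAut.conj g).toMonoidHom) hHL hH₂L hcomm hc₂
    (card_map_of_injective (hinj g)).symm hHall
  have hn : c * g ∈ normalizer (H : Set G) := by
    rw [← map_conj_eq_iff]
    have hmapmul : H.map (MulAut.conj (c * g)).toMonoidHom =
        (H.map (MulAut.conj g).toMonoidHom).map (MulAut.conj c).toMonoidHom := by
      rw [Subgroup.map_map]
      congr 1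
      ext x
      simp [mul_assoc]
    rw [hmapmul]
    exact hcH
  have h1 := mem_centralizer_iff.mp (h hn) x hx
  have h2 : c * y = y * c := (mem_centralizer_iff.mp hc y rfl).symm
  simp only [one_mul, inv_one, mul_one]
  have h3 : c * g * x = x * (c * g) := h1.symm
  have h4 : x = c * y * c⁻¹ := by
    rw [← hg]
    calc x = x * (c * g) * (c * g)⁻¹ := by group
      _ = c * g * x * (c * g)⁻¹ := by rw [h3]
      _ = _ := by group
  rw [h4, h2]
  group

end Cfsg.Agent.Lib.Transfer
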