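import Cfsg.Agent.Lib.Transfer.Critical
import Cfsg.Agent.Lib.Transfer.Special

/-!
# `p'`-automorphisms of `p`-groups: consequences of the critical subgroup theorem
-/

set_option autoImplicit false

namespace Cfsg.Agent.Lib.Transfer

open Subgroup
open scoped commutatorElement

section OddFix

variable {G : Type*} [Group G] [Finite G] {p : ℕ} [hpp : Fact p.Prime]

/-- In a group `K` with `K/Z(K)` elementary abelian, `p` odd, the `p`-power map is a homomorphism. -/
lemma mul_pow_of_pow_central {K : Type*} [Group K] (hp2 : p ≠ 2)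
    (hKp : ∀ x : K, x ^ p ∈ center K) (hKc : commutator K ≤ center K) (x y : K) :
    (x * y) ^ p = x ^ p * y ^ p := by
  have hp : p.Prime := Fact.out
  have h2 : ⁅commutator K, (⊤ : Subgroup K)⁆ = ⊥ := by
    rw [eq_bot_iff, Subgroup.commutator_le]
    intro a ha b _
    rw [Subgroup.mem_bot, commutatorElement_eq_one_iff_mul_comm]
    exact (mem_center_iff.1 (hKc ha) b).symm
  refine mul_pow_of_commutator_le_closure hp hp2 (by rw [h2, Subgroup.commutator_bot_left]) (Or.inr h2) ?_ x y
  rw [commutator_eq_closure, closure_le]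
  rintro _ ⟨u, v, rfl⟩
  apply Subgroup.subset_closure
  have hc : ⁅u, v⁆ ∈ center K := by
    apply hKc
    rw [_root_.commutator_def]
    exact Subgroup.commutator_mem_commutator (mem_top u) (mem_top v)
  exact commutator_pow_eq_one v u hc (hKp v)

/-- **Thompson**: for odd `p`, a `p'`-automorphism of a `p`-group acting trivially on the elements of
order dividing `p` is trivial. -/
theorem eq_one_of_fix_omega (hp2 : p ≠ 2) (hG : IsPGroup p G) (a : MulAut G) (ha : Nat.Coprime (orderOf a) p)
    (h : ∀ x : G, x ^ p = 1 → a x = x) : a = 1 := by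
  obtain ⟨H, hHc, h1, h2, h3⟩ := exists_critical hG
  apply eq_one_of_fix_critical hG H h2 h3 a ha
  have hHa : ∀ x ∈ H, a x ∈ H := fun x hx => map_mem_of_char hHc a hx
  have hH : IsPGroup p H := hG.to_subgroup H
  have hZc : (H ⊓ centralizer (H : Set G)).Characteristic := char_inf hHc (char_centralizer hHc)
  -- action on the centre of `H`
  have hZ : ∀ k : ℕ, ∀ z ∈ H ⊓ centralizer (H : Set G), z ^ p ^ k = 1 → a z = z := by
    intro k
    induction k with
    | zero =>
      intro z _ h0
      have : z = 1 := by simpa using h0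
      rw [this, map_one]
    | succ k ih =>
      intro z hz h0
      have hzp : z ^ p ∈ H ⊓ centralizer (H : Set G) := pow_mem hz p
      have h4 : a (z ^ p) = z ^ p := ih _ hzp (by rw [← pow_mul, ← pow_succ']; exact h0)
      have haz : a z ∈ H ⊓ centralizer (H : Set G) := map_mem_of_char hZc a hz
      have hcomm : Commute z⁻¹ (a z) := by
        have : z * a z = a z * z := (mem_centralizer_iff.1 (mem_inf.1 hz).2 _ (mem_inf.1 haz).1).symm
        exact (show Commute z (a z) from this).inv_left
      have hu : (z⁻¹ * a z) ^ p = 1 := by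
        rw [hcomm.mul_pow, ← map_pow, h4, inv_pow, inv_mul_cancel]
      have h5 := h _ hu
      have h6 := eq_one_of_coprime_aut hG a ha (g := z) (w := z⁻¹ * a z) (by group) h5
      rw [inv_mul_eq_one] at h6
      exact h6.symm
  have hZall : ∀ z ∈ H ⊓ centralizer (H : Set G), a z = z := by
    intro z hz
    obtain ⟨k, hk⟩ := hG z
    exact hZ k z hz hk
  -- the `p`-power map on `H`
  have hKp : ∀ x : H, x ^ p ∈ center H := by
    intro x
    rw [mem_center_iff]
    intro y
    have h4 : ((x ^ p : H) : G) ∈ centralizer (H : Set G) :=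
      h1 ⟨_, pow_mem_frattini hH x, rfl⟩
    apply Subtype.ext
    exact (mem_centralizer_iff.1 h4 y y.2)
  have hKc : commutator H ≤ center H := by
    intro w hw
    rw [mem_center_iff]
    intro y
    have h4 : ((w : H) : G) ∈ centralizer (H : Set G) :=
      h1 ⟨_, commutator_le_frattini hH hw, rfl⟩
    apply Subtype.ext
    exact (mem_centralizer_iff.1 h4 y y.2)
  intro x hx
  have hu : (x⁻¹ * a x) ^ p = 1 := by
    have h4 := mul_pow_of_pow_central (p := p) hp2 hKp hKc (⟨x, hx⟩ : H)⁻¹ ⟨a x, hHa x hx⟩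
    have h5 := congrArg (Subtype.val : ↥H → G) h4
    have h6 : (x⁻¹ * a x) ^ p = (x⁻¹) ^ p * (a x) ^ p := h5
    rw [h6, ← map_pow]
    have hzz : x ^ p ∈ H ⊓ centralizer (H : Set G) := by
      refine mem_inf.2 ⟨pow_mem hx p, ?_⟩
      have h7 := h1 ⟨_, pow_mem_frattini hH (⟨x, hx⟩ : H), rfl⟩
      exact h7
    rw [hZall _ hzz, inv_pow, inv_mul_cancel]
  have h5 := h _ hu
  have h6 := eq_one_of_coprime_aut hG a ha (g := x) (w := x⁻¹ * a x) (by group) h5
  rw [inv_mul_eq_one] at h6
  exact h6.symm

end OddFix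

section Aut

variable {G : Type*} [Group G] [Finite G] {p : ℕ} [hpp : Fact p.Prime]

/-- The lemma (★). -/
lemma mem_center_of_fixed (A : Subgroup (MulAut G))
    (hGA : closure {x : G | ∃ g : G, ∃ a ∈ A, x = g⁻¹ * a g} = ⊤) {c : G} (hc : ∀ a ∈ A, a c = c)
    (hcc : ∀ (g : G), ∀ a ∈ A, a (g * c * g⁻¹ * c⁻¹) = g * c * g⁻¹ * c⁻¹) : c ∈ center G := by
  have hle : closure {x : G | ∃ g : G, ∃ a ∈ A, x = g⁻¹ * a g} ≤ centralizer ({c} : Set G) := by
    rw [closure_le]
    rintro _ ⟨g, a, ha, rfl⟩
    show _ ∈ centralizer ({c} : Set G)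
    rw [mem_centralizer_iff]
    intro w hw
    rw [show w = c from hw]
    have h1 := hcc g a ha
    simp only [map_mul, map_inv, hc a ha] at h1
    have h2 : a g * c * (a g)⁻¹ = g * c * g⁻¹ := mul_right_cancel h1
    have h3 : c * (g⁻¹ * a g) = g⁻¹ * (g * c * g⁻¹) * a g := by group
    rw [h3, ← h2]
    group
  rw [hGA] at hle
  rw [mem_center_iff]
  intro g
  have := mem_centralizer_iff.1 (hle (mem_top g)) c rfl
  exact this.symm

/-- Fixed points of the norm map in `G/G'`. -/
lemma mem_commutator_of_fixed (hG : IsPGroup p G) (A : Subgroup (MulAut G)) (hA : Nat.Coprime (Nat.card A) p)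
    (hGA : closure {x : G | ∃ g : G, ∃ a ∈ A, x = g⁻¹ * a g} = ⊤) {z : G} (hz : ∀ a ∈ A, a z = z) :
    z ∈ commutator G := by
  classical
  letI : Fintype A := Fintype.ofFinite A
  let N : G →* Abelianization G := ∏ a : A, (Abelianization.of).comp ((a : MulAut G) : G →* G)
  have hN : ∀ g : G, N g = ∏ a : A, Abelianization.of ((a : MulAut G) g) := by
    intro g
    simp only [N, MonoidHom.finsetProd_apply]
    rfl
  have hle : closure {x : G | ∃ g : G, ∃ a ∈ A, x = g⁻¹ * a g} ≤ N.ker := by
    rw [closure_le]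
    rintro _ ⟨g, b, hb, rfl⟩
    show N (g⁻¹ * b g) = 1
    rw [map_mul, map_inv, inv_mul_eq_one, hN, hN]
    refine Fintype.prod_equiv (Equiv.mulRight (⟨b, hb⟩ : A)⁻¹) _ _ (fun a => ?_)
    congr 1
    show (a : MulAut G) g = ((a : MulAut G) * b⁻¹) (b g)
    rw [MulAut.mul_apply]
    simp
  rw [hGA, top_le_iff] at hle
  have h1 : N z = 1 := by
    have : z ∈ N.ker := hle ▸ mem_top z
    exact this
  rw [hN] at h1
  have h2 : ∀ a : A, Abelianization.of ((a : MulAut G) z) = Abelianization.of z := fun a => by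
    rw [hz a a.2]
  rw [Finset.prod_congr rfl (fun a _ => h2 a), Finset.prod_const, Finset.card_univ, ← Nat.card_eq_fintype_card] at h1
  obtain ⟨k, hk⟩ := hG z
  have h3 : (Abelianization.of z) ^ p ^ k = 1 := by rw [← map_pow, hk, map_one]
  have h5 : orderOf (Abelianization.of z) = 1 := Nat.Coprime.eq_one_of_dvd
    (Nat.Coprime.coprime_dvd_left (orderOf_dvd_of_pow_eq_one h3) (hA.symm.pow_left k))
    (orderOf_dvd_of_pow_eq_one h1)
  have h6 : Abelianization.of z = 1 := orderOf_eq_one_iff.1 h5
  have h7 : z ∈ (Abelianization.of).ker := h6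
  rwa [Abelianization.ker_of] at h7

/-- A `p'`-group `A` of automorphisms of `G` with `[G,A]=G` acting trivially on characteristic abelian
subgroups: `G` is special and `Z(G) = C_G(A)`. -/
theorem special_of_trivial_on_char_abelian (hG : IsPGroup p G) (A : Subgroup (MulAut G))
    (hA : Nat.Coprime (Nat.card A) p)
    (hGA : closure {x : G | ∃ g : G, ∃ a ∈ A, x = g⁻¹ * a g} = ⊤)
    (hchar : ∀ H : Subgroup G, H.Characteristic → IsMulCommutative H → ∀ a ∈ A, ∀ h ∈ H, a h = h) :
    IsSpecial p G ∧ ∀ g : G, (g ∈ center G ↔ ∀ a ∈ A, a g = g) := by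
  obtain ⟨H, hHc, h1, h2, h3⟩ := exists_critical hG
  have hH : IsPGroup p H := hG.to_subgroup H
  set ZH := H ⊓ centralizer (H : Set G) with hZH
  have hZc : ZH.Characteristic := char_inf hHc (char_centralizer hHc)
  have hZab : IsMulCommutative ZH := by
    refine ⟨⟨fun u v => ?_⟩⟩
    apply Subtype.ext
    exact (mem_centralizer_iff.1 (mem_inf.1 u.2).2 v (mem_inf.1 v.2).1).symm
  have hZfix : ∀ a ∈ A, ∀ z ∈ ZH, a z = z := hchar ZH hZc hZab
  have hCab : IsMulCommutative (center G) := by
    refine ⟨⟨fun u v => ?_⟩⟩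
    apply Subtype.ext
    exact (mem_center_iff.1 u.2 v).symm
  have hCfix : ∀ a ∈ A, ∀ z ∈ center G, a z = z := hchar (center G) inferInstance hCab
  -- `C_H(A)` is central
  have hcomm' : ∀ g : G, ∀ h ∈ H, g * h * g⁻¹ * h⁻¹ ∈ ZH := by
    intro g h hh
    have := inv_mem (h2 (Subgroup.commutator_mem_commutator hh (mem_top g)))
    rw [commutatorElement_def] at this
    have e : (h * g * h⁻¹ * g⁻¹)⁻¹ = g * h * g⁻¹ * h⁻¹ := by group
    rwa [e] at this
  have hXcen : ∀ x ∈ H, (∀ a ∈ A, a x = x) → x ∈ center G := by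
    intro x hx hfix
    exact mem_center_of_fixed A hGA hfix (fun g a ha => hZfix a ha _ (hcomm' g x hx))
  have hZHcen : ZH ≤ center G := fun z hz => hXcen z (mem_inf.1 hz).1 (fun a ha => hZfix a ha z hz)
  have hcenC : center G ≤ centralizer (H : Set G) := by
    intro z hz
    rw [mem_centralizer_iff]
    intro h _
    exact mem_center_iff.1 hz h
  have hcenZH : center G ≤ ZH := fun z hz => mem_inf.2 ⟨h3 (hcenC hz), hcenC hz⟩
  have hCH : ∀ g : G, (∀ h ∈ H, g * h = h * g) → g ∈ center G := by
    intro g hg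
    apply hZHcen
    have : g ∈ centralizer (H : Set G) := by
      rw [mem_centralizer_iff]
      intro h hh
      exact (hg h hh).symm
    exact mem_inf.2 ⟨h3 this, this⟩
  -- `p`-th powers are central
  have hpow : ∀ g : G, g ^ p ∈ center G := by
    intro g
    apply hCH
    intro h hh
    have hc : ⁅g, h⁆ ∈ center G := by
      apply hZHcen
      rw [commutatorElement_def]
      exact hcomm' g h hh
    have hhp : h ^ p ∈ center G := by
      apply hZHcen
      refine mem_inf.2 ⟨pow_mem hh p, ?_⟩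
      exact h1 ⟨_, pow_mem_frattini hH (⟨h, hh⟩ : H), rfl⟩
    have h4 := commutator_pow_eq_one h g hc hhp
    -- `h g = g h c⁻¹`
    have hinv : ⁅g, h⁆⁻¹ ∈ center G := inv_mem hc
    have h5 : h * g = g * h * ((⟨_, hinv⟩ : center G) : G) := by
      have := mem_center_iff.1 hinv (g * h)
      show h * g = g * h * ⁅g, h⁆⁻¹
      rw [this, commutatorElement_def]
      group
    have h6 := mul_pow_collect_right h5 p
    have h7 : (⟨_, hinv⟩ : center G) ^ p = 1 := by
      apply Subtype.ext
      show (⁅g, h⁆⁻¹) ^ p = 1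
      rw [inv_pow, h4, inv_one]
    rw [h7] at h6
    have h8 : h * g ^ p = g ^ p * h := by simpa using h6
    exact h8.symm
  -- commutators are central
  have hcomm : ∀ g₁ g₂ : G, ⁅g₁, g₂⁆ ∈ center G := by
    intro g₁ g₂
    apply hCH
    intro h hh
    have hc : ∀ g : G, ⁅g, h⁆ ∈ center G := by
      intro g
      apply hZHcen
      rw [commutatorElement_def]
      exact hcomm' g h hh
    let ψ : G →* center G := MonoidHom.mk' (fun g => ⟨⁅g, h⁆, hc g⟩) (by
      intro a b
      apply Subtype.ext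
      show ⁅a * b, h⁆ = ⁅a, h⁆ * ⁅b, h⁆
      have e : ⁅a * b, h⁆ = a * ⁅b, h⁆ * a⁻¹ * ⁅a, h⁆ := by
        simp only [commutatorElement_def]; group
      rw [e, mem_center_iff.1 (hc b) a, mul_inv_cancel_right]
      exact (mem_center_iff.1 (hc b) ⁅a, h⁆).symm)
    have h4 : ψ ⁅g₁, g₂⁆ = 1 := by
      rw [map_commutatorElement]
      rw [commutatorElement_eq_one_iff_mul_comm]
      apply Subtype.ext
      exact mem_center_iff.1 (ψ g₂).2 (ψ g₁ : G)
    have h5 : ⁅⁅g₁, g₂⁆, h⁆ = 1 := congrArg Subtype.val h4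
    exact commutatorElement_eq_one_iff_mul_comm.1 h5
  have hcommle : commutator G ≤ center G := by
    rw [commutator_eq_closure, closure_le]
    rintro _ ⟨u, v, rfl⟩
    exact hcomm u v
  have hfratle : frattini G ≤ center G := by
    apply frattini_le_of_elementary (p := p)
    · exact hpow
    · intro x y
      have := hcomm x y
      rwa [commutatorElement_def] at this
  have hfix : ∀ g : G, (∀ a ∈ A, a g = g) → g ∈ center G := by
    intro g hg
    apply mem_center_of_fixed A hGA hg
    intro u a ha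
    apply hCfix a ha
    apply hcommle
    have hm : ⁅u, g⁆ ∈ commutator G := by
      rw [_root_.commutator_def]
      exact Subgroup.commutator_mem_commutator (mem_top u) (mem_top g)
    rwa [commutatorElement_def] at hm
  have hcenle : center G ≤ commutator G := fun z hz =>
    mem_commutator_of_fixed hG A hA hGA (fun a ha => hCfix a ha z hz)
  have hcf : commutator G ≤ frattini G := commutator_le_frattini hG
  refine ⟨⟨hG, le_antisymm hfratle (hcenle.trans hcf), le_antisymm hcommle hcenle⟩, fun g =>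
    ⟨fun hg a ha => hCfix a ha g hg, hfix g⟩⟩

end Aut

end Cfsg.Agent.Lib.Transfer
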